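import Cfsg.Agent.Lib.ZJ.InvMain
import Cfsg.Agent.S0199

/-!
# A normal Sylow `2`-subgroup from the absence of inverted elements of odd order
-/

set_option autoImplicit false
set_option linter.unusedSectionVars false
set_option linter.unusedVariables false
set_option linter.style.haveILetI false
set_option linter.unusedSimpArgs false

namespace Cfsg.Agent.Lib.ZJ.InvNormalSylow

open Subgroup Cfsg Cfsg.Agent.Lib.ZJ.Reduction Cfsg.Agent.Lib.ZJ.Main Cfsg.Agent.Lib.ZJ.InvFree
open Cfsg.Agent.Lib.ZJ.QdControl Cfsg.Agent.Lib.ZJ.InvMain Cfsg.Agent.Lib.Core.Basic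

universe u

/-- An element inverted by an involution which is not a `2`-element gives an inverted element of odd
prime order. -/
lemma pow_two_pow_of_inverted {Y : Type u} [Group Y] [Finite Y]
    (hY : ∀ (q : ℕ) [Fact q.Prime], q ≠ 2 → InvFree q Y) {t r : Y}
    (h : t * r * t⁻¹ = r⁻¹) : ∃ k : ℕ, r ^ 2 ^ k = 1 := by
  have hn : orderOf r ≠ 0 := (orderOf_pos r).ne'
  obtain ⟨k, m, hm, hnm⟩ := Nat.exists_eq_two_pow_mul_odd hn
  by_cases hm1 : m = 1
  · refine ⟨k, ?_⟩
    have : r ^ (2 ^ k * m) = 1 := by rw [← hnm]; exact pow_orderOf_eq_one r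
    rwa [hm1, mul_one] at this
  · exfalso
    obtain ⟨q, hq, hqm⟩ := Nat.exists_prime_and_dvd hm1
    haveI : Fact q.Prime := ⟨hq⟩
    have hq2 : q ≠ 2 := by
      rintro rfl
      rcases hm with ⟨j, rfl⟩
      omega
    obtain ⟨m', rfl⟩ := hqm
    set y := r ^ (2 ^ k * m') with hy
    have hyq : y ^ q = 1 := by
      rw [hy, ← pow_mul]
      have e : 2 ^ k * m' * q = orderOf r := by rw [hnm]; ring
      rw [e]
      exact pow_orderOf_eq_one r
    have hy1 : y ≠ 1 := by
      have hm'pos : 0 < m' := by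
        rcases Nat.eq_zero_or_pos m' with h0 | h0
        · subst h0
          simp at hm
        · exact h0
      apply pow_ne_one_of_lt_orderOf
      · positivity
      · rw [hnm]
        have h2 : 0 < 2 ^ k := by positivity
        have h3 : m' < q * m' := by
          have := hq.two_le
          nlinarith
        exact Nat.mul_lt_mul_of_pos_left h3 h2
    refine hY q hq2 y t ⟨1, by simpa using hyq⟩ hy1 ?_
    rw [hy, ← conj_pow, h, inv_pow]

/-- **A normal Sylow `2`-subgroup.** -/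
theorem normal_sylow_two_of_invFree {G : Type u} [Group G] [Finite G]
    (h : ∀ (q : ℕ) [Fact q.Prime], q ≠ 2 → InvFree q G) (P : Sylow 2 G) :
    (P : Subgroup G).Normal := by
  classical
  set K : Subgroup G := pCore 2 G with hK
  have hKn : K.Normal := inferInstance
  let Y := G ⧸ K
  have hY : ∀ (q : ℕ) [Fact q.Prime], q ≠ 2 → InvFree q Y := fun q _ hq =>
    InvFree.of_surjective hq (h q hq) (QuotientGroup.mk' K) (QuotientGroup.mk'_surjective K)
  have hinv : ∀ t : Y, t ^ 2 = 1 → t = 1 := by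
    intro t ht
    by_contra ht1
    have htt : t * t = 1 := by rw [← pow_two]; exact ht
    have htinv : t⁻¹ = t := inv_eq_of_mul_eq_one_left htt
    have hzt : IsPGroup 2 (zpowers t) := by
      rw [isPGroup_iff_pow_pow_eq_one]
      rintro ⟨_, i, rfl⟩
      refine ⟨1, Subtype.ext ?_⟩
      show (t ^ i) ^ 2 ^ 1 = 1
      rw [pow_one, ← zpow_natCast, ← zpow_mul, mul_comm, zpow_mul, zpow_natCast, ht, one_zpow]
    have hall : ∀ g : Y, IsPGroup 2 ↥(zpowers t ⊔ (zpowers t).map (MulAut.conj g).toMonoidHom) := by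
      intro g
      rw [MonoidHom.map_zpowers]
      set s := (MulAut.conj g).toMonoidHom t with hs
      have hse : s = g * t * g⁻¹ := rfl
      have hss : s * s = 1 := by
        rw [hse]
        calc g * t * g⁻¹ * (g * t * g⁻¹) = g * (t * t) * g⁻¹ := by group
          _ = 1 := by rw [htt]; group
      have hsinv : s⁻¹ = s := inv_eq_of_mul_eq_one_left hss
      set r := t * s with hr
      have hrinv : t * r * t⁻¹ = r⁻¹ := by
        rw [hr, htinv, mul_inv_rev, htinv, hsinv]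
        calc t * (t * s) * t = (t * t) * s * t := by group
          _ = s * t := by rw [htt, one_mul]
      obtain ⟨k, hk⟩ := pow_two_pow_of_inverted hY hrinv
      have hzr : IsPGroup 2 (zpowers r) := by
        rw [isPGroup_iff_pow_pow_eq_one]
        rintro ⟨_, i, rfl⟩
        refine ⟨k, Subtype.ext ?_⟩
        show (r ^ i) ^ 2 ^ k = 1
        rw [← zpow_natCast, ← zpow_mul, mul_comm, zpow_mul, zpow_natCast, hk, one_zpow]
      have hnorm : zpowers t ≤ normalizer (zpowers r : Subgroup Y) := by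
        rw [zpowers_le]
        have h1 : t ∈ NN (zpowers r) := by
          apply mem_NN_of_cj_le
          rw [cj, Subgroup.map_le_iff_le_comap, zpowers_le, mem_comap]
          show t * r * t⁻¹ ∈ zpowers r
          rw [hrinv]
          exact inv_mem (mem_zpowers r)
        exact h1
      have hD := IsPGroup.to_sup_of_normal_left' hzr hzt hnorm
      refine hD.to_le (sup_le le_sup_right (zpowers_le.2 ?_))
      have e : s = t * r := by
        rw [hr, ← mul_assoc, htt, one_mul]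
      rw [e]
      exact Subgroup.mul_mem _ (Subgroup.mem_sup_right (mem_zpowers t))
        (Subgroup.mem_sup_left (mem_zpowers r))
    obtain ⟨N, hNn, hNp, hXN⟩ := Cfsg.Agent.S0199.result (zpowers t) hzt hall
    let π : G →* Y := QuotientGroup.mk' K
    let N' : Subgroup G := N.comap π
    have hN'n : N'.Normal := Subgroup.Normal.comap hNn _
    have hN'p : IsPGroup 2 N' := by
      rw [isPGroup_iff_pow_pow_eq_one]
      rintro ⟨x, hx⟩
      obtain ⟨a, ha⟩ := (isPGroup_iff_pow_pow_eq_one.1 hNp) ⟨π x, hx⟩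
      have h1 : π x ^ 2 ^ a = 1 := congrArg Subtype.val ha
      rw [← map_pow] at h1
      have h2 : x ^ 2 ^ a ∈ K := (QuotientGroup.eq_one_iff _).1 h1
      obtain ⟨b, hb⟩ := (isPGroup_iff_pow_pow_eq_one.1 (pCore_isPGroup (p := 2) (G := G))) ⟨_, h2⟩
      have h3 : (x ^ 2 ^ a) ^ 2 ^ b = 1 := congrArg Subtype.val hb
      refine ⟨a + b, Subtype.ext ?_⟩
      show x ^ 2 ^ (a + b) = 1
      rw [pow_add, pow_mul]
      exact h3
    have hN'K : N' ≤ K := le_pCore hN'n hN'p
    obtain ⟨x₀, rfl⟩ := QuotientGroup.mk'_surjective K t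
    have hx₀ : x₀ ∈ N' := hXN (mem_zpowers _)
    exact ht1 ((QuotientGroup.eq_one_iff _).2 (hN'K hx₀))
  have hodd : ¬ 2 ∣ Nat.card Y := by
    intro h2
    haveI : Fact (Nat.Prime 2) := ⟨Nat.prime_two⟩
    obtain ⟨x, hx⟩ := exists_prime_orderOf_dvd_card' 2 h2
    have h1 : x ^ 2 = 1 := by rw [← hx]; exact pow_orderOf_eq_one x
    have h3 := hinv x h1
    rw [h3, orderOf_one] at hx
    omega
  have hPK : (P : Subgroup G) ≤ K := by
    intro x hx
    obtain ⟨a, ha⟩ := (isPGroup_iff_pow_pow_eq_one.1 P.isPGroup') ⟨x, hx⟩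
    have h1 : x ^ 2 ^ a = 1 := congrArg Subtype.val ha
    have h2 : (QuotientGroup.mk' K x) ^ 2 ^ a = 1 := by
      rw [← map_pow, h1, map_one]
    have h3 : orderOf (QuotientGroup.mk' K x) ∣ 2 ^ a := orderOf_dvd_of_pow_eq_one h2
    have h4 : orderOf (QuotientGroup.mk' K x) ∣ Nat.card Y := orderOf_dvd_natCard _
    have hcop : Nat.Coprime (Nat.card Y) 2 := by
      rw [Nat.coprime_comm]
      exact (Nat.Prime.coprime_iff_not_dvd Nat.prime_two).2 hodd
    have h5 : Nat.Coprime (orderOf (QuotientGroup.mk' K x)) (2 ^ a) :=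
      Nat.Coprime.coprime_dvd_left h4 (Nat.Coprime.pow_right a hcop)
    have h6 := Nat.Coprime.eq_one_of_dvd h5 h3
    have h7 : QuotientGroup.mk' K x = 1 := orderOf_eq_one_iff.1 h6
    exact (QuotientGroup.eq_one_iff _).1 h7
  have hPe : (P : Subgroup G) = K := le_antisymm hPK (pCore_le_sylow P)
  rw [hPe]
  exact hKn

/-- All Sylow `2`-subgroups of a subgroup are normal, if those of `G` are. -/
theorem sylow_subgroup_normal {G : Type u} [Group G] [Finite G]
    (h : ∀ P : Sylow 2 G, (P : Subgroup G).Normal) (H : Subgroup G) (P : Sylow 2 H) :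
    (P : Subgroup H).Normal := by
  obtain ⟨P₁, hP₁⟩ := (P.isPGroup'.map H.subtype).exists_le_sylow
  haveI := h P₁
  have hQ : IsPGroup 2 ((P₁ : Subgroup G).subgroupOf H) :=
    P₁.isPGroup'.comap_of_injective _ H.subtype_injective
  have hle : (P : Subgroup H) ≤ (P₁ : Subgroup G).subgroupOf H := by
    intro x hx
    rw [Subgroup.mem_subgroupOf]
    exact hP₁ ⟨x, hx, rfl⟩
  have he := P.is_maximal' hQ hle
  rw [← he]
  infer_instance

/-- A normal Sylow `2`-subgroup excludes inverted elements of odd prime power order. -/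
theorem invFree_of_sylow_normal {X : Type u} [Group X] [Finite X]
    (h : ∀ P : Sylow 2 X, (P : Subgroup X).Normal) {q : ℕ} [Fact q.Prime] (hq : q ≠ 2) :
    InvFree q X := by
  classical
  intro x g hxp hx1 hinv
  obtain ⟨k, hk⟩ := hxp
  have hn : orderOf g ≠ 0 := (orderOf_pos g).ne'
  obtain ⟨e, m, hm, hnm⟩ := Nat.exists_eq_two_pow_mul_odd hn
  set t := g ^ m with ht
  have ht2 : t ^ 2 ^ e = 1 := by
    rw [ht, ← pow_mul, mul_comm, ← hnm, pow_orderOf_eq_one]
  have htinv : t * x * t⁻¹ = x⁻¹ := conj_pow_odd hinv hm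
  have hzt : IsPGroup 2 (zpowers t) := by
    rw [isPGroup_iff_pow_pow_eq_one]
    rintro ⟨_, i, rfl⟩
    refine ⟨e, Subtype.ext ?_⟩
    show (t ^ i) ^ 2 ^ e = 1
    rw [← zpow_natCast, ← zpow_mul, mul_comm, zpow_mul, zpow_natCast, ht2, one_zpow]
  obtain ⟨P, hP⟩ := hzt.exists_le_sylow
  have hPn := h P
  have htP : t ∈ (P : Subgroup X) := hP (mem_zpowers t)
  have h1 : x⁻¹ * x⁻¹ ∈ (P : Subgroup X) := by
    have h2 := hPn.conj_mem _ (inv_mem htP) x
    have h3 := Subgroup.mul_mem _ htP h2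
    have e2 : t * (x * t⁻¹ * x⁻¹) = x⁻¹ * x⁻¹ := by
      calc t * (x * t⁻¹ * x⁻¹) = (t * x * t⁻¹) * x⁻¹ := by group
        _ = x⁻¹ * x⁻¹ := by rw [htinv]
    rwa [e2] at h3
  obtain ⟨a, ha⟩ := (isPGroup_iff_pow_pow_eq_one.1 P.isPGroup') ⟨_, h1⟩
  have ha' : (x⁻¹ * x⁻¹) ^ 2 ^ a = 1 := congrArg Subtype.val ha
  have hq' : q.Prime := Fact.out
  have ha2 : x ^ 2 ^ (a + 1) = 1 := by
    have e3 : (x⁻¹ * x⁻¹) ^ 2 ^ a = (x ^ 2 ^ (a + 1))⁻¹ := by
      rw [← inv_pow, ← pow_two, ← pow_mul, ← pow_succ']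
    rw [e3, inv_eq_one] at ha'
    exact ha'
  have h4 : orderOf x ∣ 2 ^ (a + 1) := orderOf_dvd_of_pow_eq_one ha2
  have h5 : orderOf x ∣ q ^ k := orderOf_dvd_of_pow_eq_one hk
  have hcop : Nat.Coprime (2 ^ (a + 1)) (q ^ k) := by
    apply Nat.Coprime.pow
    exact (Nat.coprime_primes Nat.prime_two hq').2 hq.symm
  have h6 := Nat.eq_one_of_dvd_coprimes hcop h4 h5
  exact hx1 (orderOf_eq_one_iff.1 h6)

/-- From `(c)`: the hypothesis of the control theorem. -/
theorem invFreeS_of_c {G : Type u} [Group G] [Finite G] {q : ℕ} [Fact q.Prime] (T : Sylow q G)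
    (h : ∀ x ∈ (T : Subgroup G), x ≠ 1 →
      ∀ g ∈ Subgroup.normalizer (Cfsg.centerThompsonAOf (T : Subgroup G) : Set G), g * x * g⁻¹ ≠ x⁻¹) :
    InvFreeS q (NN (Wf WZJ (T : Subgroup G))) := by
  classical
  rw [Wf_WZJ]
  intro x hx g hg hxp hx1 hinv
  set H := NN (centerThompsonAOf (T : Subgroup G)) with hH
  have hTH : (T : Subgroup G) ≤ H := by
    have h1 := (le_NN (T : Subgroup G)).trans
      (NN_le_NN_Wf (W := WZJ) isCharP_WZJ (T : Subgroup G) T.isPGroup')
    rwa [Wf_WZJ] at h1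
  have hTs : SylowIn q (T : Subgroup G) H := SylowIn.of_sylow T hTH
  obtain ⟨k, hk⟩ := hxp
  have hzp : IsPGroup q (zpowers x) := by
    rw [isPGroup_iff_pow_pow_eq_one]
    rintro ⟨_, i, rfl⟩
    refine ⟨k, Subtype.ext ?_⟩
    show (x ^ i) ^ q ^ k = 1
    rw [← zpow_natCast, ← zpow_mul, mul_comm, zpow_mul, zpow_natCast, hk, one_zpow]
  obtain ⟨z, hz, hzx⟩ := hTs.conj (zpowers_le.2 hx) hzp
  have hx' : z * x * z⁻¹ ∈ (T : Subgroup G) := hzx (conj_mem_cj (mem_zpowers x))
  refine h _ hx' ?_ (z * g * z⁻¹) (H.mul_mem (H.mul_mem hz hg) (H.inv_mem hz)) ?_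
  · intro h0
    apply hx1
    have : x = z⁻¹ * (z * x * z⁻¹) * z := by group
    rw [this, h0]
    group
  · calc z * g * z⁻¹ * (z * x * z⁻¹) * (z * g * z⁻¹)⁻¹ = z * (g * x * g⁻¹) * z⁻¹ := by group
      _ = z * x⁻¹ * z⁻¹ := by rw [hinv]
      _ = (z * x * z⁻¹)⁻¹ := by group

end Cfsg.Agent.Lib.ZJ.InvNormalSylow
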