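import Cfsg.Agent.Lib.ZJ.InvFree
import Cfsg.Agent.Lib.ZJ.InvCentral
import Cfsg.Agent.Lib.ZJ.QdControl

/-!
# The chain argument for inverted `p`-elements
-/

set_option autoImplicit false
set_option linter.unusedSectionVars false
set_option linter.unusedVariables false
set_option linter.style.haveILetI false
set_option linter.unusedSimpArgs false

open scoped commutatorElement

namespace Cfsg.Agent.Lib.ZJ.InvChain

open Subgroup Cfsg Cfsg.Agent.Lib.ZJ.Reduction Cfsg.Agent.Lib.ZJ.Main Cfsg.Agent.Lib.ZJ.InvFree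
open Cfsg.Agent.Lib.ZJ.QdControl Cfsg.Agent.Lib.ZJ.InvCentral Cfsg.Agent.Lib.PLocal.ZJ
open Cfsg.Agent.Lib.PLocal.Thompson Cfsg.Agent.Lib.ZJ.Core Cfsg.Agent.Lib.Core.Basic

universe u

variable {G : Type u} [Group G] [Finite G] {p : ℕ} [hpf : Fact p.Prime]

lemma Wf_eq_Z₀ (P : Subgroup G) : Wf WZJ P = Z₀ 0 P := Z₀_map_subtype P

/-- The inductive hypothesis, in the form used here. -/
def LocalInv (p : ℕ) (G : Type u) [Group G] : Prop :=
  ∀ X S₁ : Subgroup G, X ≠ ⊤ → SylowIn p S₁ X → ¬ InvFreeS p X →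
    ¬ InvFreeS p (X ⊓ NN (Wf WZJ S₁))

lemma InvFreeS_cj_iff {K : Subgroup G} (c : G) : InvFreeS p (cj c K) ↔ InvFreeS p K := by
  constructor
  · intro h
    have := h.cj c⁻¹
    rwa [cj_inv_cj] at this
  · intro h
    exact h.cj c

lemma normal_cj_iff {K : Subgroup G} (c : G) : (cj c K).Normal ↔ K.Normal := by
  constructor
  · intro h
    rw [← NN_eq_top_iff] at h ⊢
    rw [NN_cj] at h
    have h1 := congrArg (cj c⁻¹) h
    rw [cj_inv_cj, cj_of_normal _ (by infer_instance)] at h1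
    exact h1
  · intro h
    rw [cj_of_normal c h]
    exact h

/-- The chain. -/
theorem chain_main {S : Subgroup G} (hS : SylowIn p S ⊤) (hB : LocalInv p G)
    (Pr : Subgroup G → Prop) (hmono : ∀ (B B' : Subgroup G) (x : G), Pr B → cj x B ≤ B' → Pr B')
    (hnn : ∀ B : Subgroup G, B ≤ S → B ≠ S → Pr B → ¬ (Wf WZJ B).Normal) :
    ∀ (n : ℕ) (T : Subgroup G), T ≤ S → ¬ T.Normal → Pr (S ⊓ NN T) → ¬ InvFreeS p (NN T) →
      Nat.card S - Nat.card (S ⊓ NN T : Subgroup G) ≤ n → ¬ InvFreeS p (NN (Wf WZJ S)) := by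
  intro n
  induction n using Nat.strong_induction_on with
  | _ n ih =>
  intro T hTS hTn hPr hinv hn
  have hSp : IsPGroup p S := hS.isP
  obtain ⟨x, hxFN, hxT⟩ := exists_FN hS hTS
  set T' := cj x T with hT'
  set S₁ := S ⊓ NN T' with hS₁
  have hle1 : cj x (S ⊓ NN T) ≤ S₁ := le_inf hxT (by rw [hT', NN_cj]; exact cj_mono inf_le_right)
  have hPrS₁ : Pr S₁ := hmono _ _ x hPr hle1
  have hcard1 : Nat.card (S ⊓ NN T : Subgroup G) ≤ Nat.card S₁ := by
    rw [← card_cj x]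
    exact Subgroup.card_le_of_le hle1
  have hT'n : ¬ T'.Normal := fun h => hTn ((normal_cj_iff x).1 h)
  have hinv' : ¬ InvFreeS p (NN T') := by
    rw [hT', NN_cj, InvFreeS_cj_iff]
    exact hinv
  have hMne : NN T' ≠ ⊤ := fun h => hT'n (NN_eq_top_iff.1 h)
  have h1 := hB (NN T') S₁ hMne hxFN.syl hinv'
  by_cases hS₁S : S₁ = S
  · rw [hS₁S] at h1
    exact fun hc => h1 (hc.mono inf_le_right)
  · have hS₁p : IsPGroup p S₁ := hSp.to_le inf_le_left
    have hS₁le : S₁ ≤ S := inf_le_left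
    set U₁ := Wf WZJ S₁ with hU₁
    have hU₁S : U₁ ≤ S := (Wf_le _).trans hS₁le
    have hNN : NN S₁ ≤ NN U₁ := NN_le_NN_Wf isCharP_WZJ _ hS₁p
    have hlt : S₁ < S := lt_of_le_of_ne hS₁le hS₁S
    have hle2 : S₁ ≤ S ⊓ NN U₁ := le_inf hS₁le ((le_NN S₁).trans hNN)
    have hlt2 : S₁ < S ⊓ NN U₁ :=
      lt_of_lt_of_le (lt_inf_NN hSp hlt) (inf_le_inf_left _ hNN)
    have hcard2 : Nat.card S₁ < Nat.card (S ⊓ NN U₁ : Subgroup G) := card_lt_of_lt hlt2
    have hcard3 : Nat.card (S ⊓ NN U₁ : Subgroup G) ≤ Nat.card S :=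
      Subgroup.card_le_of_le inf_le_left
    refine ih (Nat.card S - Nat.card (S ⊓ NN U₁ : Subgroup G)) (by omega) U₁ hU₁S
      (hnn S₁ hS₁le hS₁S hPrS₁) (hmono S₁ _ 1 hPrS₁ (by rw [cj_one]; exact hle2)) ?_ le_rfl
    exact fun hc => h1 (hc.mono inf_le_right)

/-- Central-mod-`N` elements of order `p` in a `p`-group section. -/
lemma exists_central_mod' (S : Subgroup G) (hS : IsPGroup p S) (N M : Subgroup G) [hN : N.Normal]
    (hMS : S ≤ normalizer (M : Set G)) (hMle : M ≤ S) (hlt : N < M) :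
    ∃ y ∈ M, y ∉ N ∧ y ∈ sectionKernel S N ∧ y ^ p ∈ N := by
  classical
  obtain ⟨z₀, hz₀M, hz₀N⟩ := SetLike.exists_of_lt hlt
  let N' : Subgroup S := N.subgroupOf S
  have hN' : N'.Normal := inferInstance
  let M' : Subgroup S := M.subgroupOf S
  have hM' : M'.Normal := (normal_subgroupOf_iff_le_normalizer hMle).2 hMS
  let K : Subgroup (S ⧸ N') := M'.map (QuotientGroup.mk' N')
  have hK : K.Normal := Subgroup.Normal.map hM' _ (QuotientGroup.mk'_surjective N')
  have hne : K ≠ ⊥ := by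
    intro hb
    have h1 : QuotientGroup.mk' N' (⟨z₀, hMle hz₀M⟩ : S) ∈ K :=
      ⟨_, mem_subgroupOf.2 hz₀M, rfl⟩
    rw [hb, mem_bot, QuotientGroup.mk'_apply, QuotientGroup.eq_one_iff] at h1
    exact hz₀N (mem_subgroupOf.1 h1)
  have hQ : IsPGroup p (S ⧸ N') := IsPGroup.to_quotient hS N'
  obtain ⟨z, ⟨y, hyM, rfl⟩, hzZ, hzo⟩ :=
    Cfsg.Agent.Lib.PGroups.Basic.exists_central_orderOf_eq hQ K hne
  refine ⟨y, mem_subgroupOf.1 hyM, ?_, ?_, ?_⟩
  · intro hyN
    have h1 : QuotientGroup.mk' N' y = 1 := by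
      rw [QuotientGroup.mk'_apply, QuotientGroup.eq_one_iff]
      exact mem_subgroupOf.2 hyN
    rw [h1, orderOf_one] at hzo
    exact (Fact.out : p.Prime).one_lt.ne hzo
  · rw [mem_sectionKernel_iff]
    intro s hs
    have h1 := mem_center_iff.1 hzZ (QuotientGroup.mk' N' (⟨s, hs⟩ : S))
    rw [← map_mul, ← map_mul] at h1
    have h2 : (⟨s, hs⟩ * y)⁻¹ * (y * ⟨s, hs⟩) ∈ N' := by
      apply QuotientGroup.eq.1
      exact h1
    have h3 : ((⟨s, hs⟩ * y)⁻¹ * (y * ⟨s, hs⟩) : S).1 ∈ N := mem_subgroupOf.1 h2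
    simp only [Subgroup.coe_mul, Subgroup.coe_inv] at h3
    have e : ⁅(y : G), s⁆ = (y : G) * s * ((s * (y : G))⁻¹ * ((y : G) * s)) * ((y : G) * s)⁻¹ := by
      rw [commutatorElement_def]
      group
    rw [e]
    exact hN.conj_mem _ h3 _
  · have h1 : (QuotientGroup.mk' N' y) ^ p = 1 := by
      rw [← hzo]
      exact pow_orderOf_eq_one _
    rw [← map_pow, QuotientGroup.mk'_apply, QuotientGroup.eq_one_iff] at h1
    have h2 := mem_subgroupOf.1 h1
    simpa using h2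

/-- An element stabilizing the chain `Q ≥ N ≥ 1` lies in `Q = O_p(G)`, if `C_G(Q) ≤ Q`. -/
lemma mem_pCore_of_stable (hc : centralizer (pCore p G : Set G) ≤ pCore p G) (N : Subgroup G)
    [hN : N.Normal] (hNp : IsPGroup p N) {y : G} (hyK : y ∈ sectionKernel (pCore p G) N)
    (hyC : y ∈ centralizer (N : Set G)) : y ∈ pCore p G := by
  classical
  set Q := pCore p G with hQ
  have hQn : Q.Normal := inferInstance
  have hKn : (sectionKernel Q N).Normal := sectionKernel_normal Q N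
  let Sta : Subgroup G := sectionKernel Q N ⊓ centralizer (N : Set G)
  have hSta : Sta.Normal := by
    have h1 : (centralizer (N : Set G)).Normal := normal_centralizer
    exact Subgroup.normal_inf_normal _ _
  obtain ⟨f, hf⟩ := isPGroup_iff_exists_pow_pow_eq_one.1 hNp
  have hf' : ∀ u ∈ N, u ^ p ^ f = 1 := by
    intro u hu
    have := hf ⟨u, hu⟩
    simpa [Subtype.ext_iff] using this
  have hStap : IsPGroup p Sta := by
    rw [isPGroup_iff_pow_pow_eq_one]
    rintro ⟨g, hg⟩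
    have hcen : g ^ p ^ f ∈ centralizer (Q : Set G) := by
      refine mem_centralizer_iff.2 ?_
      intro q hq
      have hc1 : ⁅g, q⁆ ∈ N := (mem_sectionKernel_iff.1 hg.1) q hq
      set c := ⁅g, q⁆ with hcd
      have hgc : g * c = c * g := (mem_centralizer_iff.1 hg.2 c hc1).symm
      have hgq : g * q = c * q * g := by
        rw [hcd, commutatorElement_def]
        group
      have hiter : ∀ m : ℕ, g ^ m * q = c ^ m * q * g ^ m := by
        intro m
        induction m with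
        | zero => simp
        | succ m ih =>
          have hgcm : g ^ m * c = c * g ^ m := ((Commute.pow_left hgc m)).eq
          calc g ^ (m + 1) * q = g ^ m * (g * q) := by rw [pow_succ, mul_assoc]
            _ = g ^ m * (c * q * g) := by rw [hgq]
            _ = (g ^ m * c) * q * g := by group
            _ = c * (g ^ m * q) * g := by rw [hgcm]; group
            _ = c * (c ^ m * q * g ^ m) * g := by rw [ih]
            _ = c ^ (m + 1) * q * g ^ (m + 1) := by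
                rw [pow_succ' c, pow_succ g]; group
      have h3 := hiter (p ^ f)
      rw [hf' c hc1, one_mul] at h3
      exact h3.symm
    have hmem : g ^ p ^ f ∈ Q := hc hcen
    obtain ⟨k, hk⟩ := (isPGroup_iff_pow_pow_eq_one.1 (pCore_isPGroup (p := p) (G := G))) ⟨_, hmem⟩
    refine ⟨f + k, Subtype.ext ?_⟩
    have h4 : (g ^ p ^ f) ^ p ^ k = 1 := congrArg Subtype.val hk
    show g ^ p ^ (f + k) = 1
    rw [pow_add, pow_mul]
    exact h4
  exact (le_pCore hSta hStap) ⟨hyK, hyC⟩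

omit [Finite G] hpf in
lemma mem_comm_subgroup (N : Subgroup G) [hN : N.Normal] (d x : G) :
    x ∈ (centralizer ({QuotientGroup.mk' N d} : Set (G ⧸ N))).comap (QuotientGroup.mk' N) ↔
      ⁅d, x⁆ ∈ N := by
  have key : ⁅d, x⁆ ∈ N ↔ QuotientGroup.mk' N ⁅d, x⁆ = 1 := (QuotientGroup.eq_one_iff _).symm
  rw [mem_comap, Subgroup.mem_centralizer_singleton_iff, key, map_commutatorElement,
    commutatorElement_eq_one_iff_mul_comm]
  exact eq_comm

/-- **Case B**: if `C_G(O_p(G)) ≤ O_p(G)` and `Z(J(S))` is not normal, an element of a Sylow subgroup is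
inverted in `N_G(Z(J(S)))`. -/
theorem caseB (hp : p ≠ 2) (hB : LocalInv p G) (S : Sylow p G)
    (hc : centralizer (pCore p G : Set G) ≤ pCore p G)
    (hZ : ¬ (Z₀ 0 (S : Subgroup G)).Normal) : ¬ InvFreeS p (NN (Z₀ 0 (S : Subgroup G))) := by
  classical
  set Zz : Subgroup G := Z₀ 0 (S : Subgroup G) with hZz
  set N : Subgroup G := Zz.normalCore with hN
  have hNZ : N ≤ Zz := normalCore_le _
  have hNn : N.Normal := normalCore_normal _
  have hZS : Zz ≤ S := Z₀_le_self _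
  have hNS : N ≤ S := hNZ.trans hZS
  have hNlt : N < Zz := by
    refine lt_of_le_of_ne hNZ ?_
    intro heq
    apply hZ
    rw [← heq]
    exact normalCore_normal _
  have hSZ : (S : Subgroup G) ≤ normalizer (Zz : Set G) := by
    intro s hs
    rw [mem_normalizer_iff]
    intro x
    constructor
    · exact mem_Z₀_conj (le_normalizer hs)
    · intro hx
      have := mem_Z₀_conj (e := 0) (inv_mem (le_normalizer hs)) hx
      have e2 : s⁻¹ * (s * x * s⁻¹) * s⁻¹⁻¹ = x := by group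
      rwa [e2] at this
  obtain ⟨y, hyZ, hyN, hyK, hyp⟩ := exists_central_mod' (p := p) (S : Subgroup G) S.isPGroup' N Zz
    hSZ hZS hNlt
  have hyS : y ∈ (S : Subgroup G) := hZS hyZ
  set Q : Subgroup G := pCore p G with hQ
  have hQS : Q ≤ (S : Subgroup G) := pCore_le_sylow S
  have hyKQ : y ∈ sectionKernel Q N := by
    rw [mem_sectionKernel_iff] at hyK ⊢
    exact fun x hx => hyK x (hQS hx)
  have hyC : y ∈ centralizer (N : Set G) :=
    mem_centralizer_iff.2 (fun n hn => Z₀_comm (S : Subgroup G) (hNZ hn) hyZ)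
  have hyQ : y ∈ Q := mem_pCore_of_stable hc N (S.isPGroup'.to_le hNS) hyKQ hyC
  -- the subgroup `R`
  have hNQ : N ≤ Q := le_pCore (normalCore_normal _) (S.isPGroup'.to_le hNS)
  set R : Subgroup G := normalClosure ((N : Set G) ∪ {y}) with hR
  have hRn : R.Normal := normalClosure_normal
  have hRQ : R ≤ Q := by
    apply normalClosure_le_normal
    rintro x (hx | hx)
    · exact hNQ hx
    · rw [Set.mem_singleton_iff] at hx
      rw [hx]
      exact hyQ
  have hRS : R ≤ (S : Subgroup G) := hRQ.trans hQS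
  have hRp : IsPGroup p R := S.isPGroup'.to_le hRS
  have hyR : y ∈ R := subset_normalClosure (Or.inr rfl)
  have hNR : N ≤ R := fun x hx => subset_normalClosure (Or.inl hx)
  have hRcomm : ⁅R, R⁆ ≤ N := by
    have hKn : (sectionKernel Q N).Normal := sectionKernel_normal Q N
    have h1 : R ≤ sectionKernel Q N := by
      apply normalClosure_le_normal
      rintro x (hx | hx)
      · rw [SetLike.mem_coe, mem_sectionKernel_iff]
        intro q _
        have e2 : ⁅x, q⁆ = x * (q * x⁻¹ * q⁻¹) := by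
          rw [commutatorElement_def]
          group
        rw [e2]
        exact mul_mem hx (hNn.conj_mem _ (inv_mem hx) q)
      · rw [Set.mem_singleton_iff] at hx
        rw [hx]
        exact hyKQ
    rw [commutator_le]
    intro r hr r' hr'
    exact (mem_sectionKernel_iff.1 (h1 hr)) r' (hRQ hr')
  have hexU : ∃ U, IsMaxIn 0 (S : Subgroup G) U ∧ ⁅R, R⁆ ≤ U ∧ ¬ R ≤ U := by
    by_contra hno
    have hall : R ≤ Zz := by
      refine le_sInf ?_
      intro U hU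
      by_contra hnU
      exact hno ⟨U, hU, hRcomm.trans (hNZ.trans (Z₀_le hU)), hnU⟩
    exact hyN (normal_le_normalCore.2 hall hyR)
  obtain ⟨A, hA, hA1, hA2, hA3⟩ := exists_replacement hp (Or.inl rfl) (S : Subgroup G) S.isPGroup' R
    hRS (fun s _ => by rw [normalizer_eq_top R]; exact mem_top s) hexU
  have hAS : A ≤ (S : Subgroup G) := hA.1
  -- generation of `R`
  have hgen : ∀ F : Subgroup G, (∀ n ∈ N, n ∈ F) → (∀ g : G, g * y * g⁻¹ ∈ F) → R ≤ F := by
    intro F h1 h2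
    rw [hR, normalClosure, closure_le]
    intro x hx
    obtain ⟨s, hs, hsx⟩ := Group.mem_conjugatesOfSet_iff.1 hx
    obtain ⟨g, rfl⟩ := isConj_iff.1 hsx
    rcases hs with hs | hs
    · exact h1 _ (hNn.conj_mem s hs g)
    · rw [Set.mem_singleton_iff] at hs
      rw [hs]
      exact h2 g
  -- the kernel on `R / N`
  set Cc : Subgroup G := sectionKernel R N with hCc
  haveI hCn : Cc.Normal := sectionKernel_normal R N
  have hcc : ∀ t, t ∈ Cc ↔ ∀ x ∈ R, ⁅t, x⁆ ∈ N := fun t => mem_sectionKernel_iff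
  have hRCc : R ≤ Cc := by
    intro r hr
    rw [hcc]
    intro x hx
    exact hRcomm (commutator_mem_commutator hr hx)
  -- `O_p(G / Cc) = 1`
  have hOp : ∀ g : G, (QuotientGroup.mk g : G ⧸ Cc) ∈ pCore p (G ⧸ Cc) → g ∈ Cc := by
    intro d hd
    let D : Subgroup G := (pCore p (G ⧸ Cc)).comap (QuotientGroup.mk' Cc)
    have hDn : D.Normal := Subgroup.Normal.comap inferInstance _
    have hdy : ∀ d' ∈ D, ⁅d', y⁆ ∈ N := by
      intro d' hd'
      obtain ⟨c, hc', t, ht, rfl, -⟩ := exists_mul_of_mem_comap_pCore S Cc hd'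
      have e : ⁅c * t, y⁆ = c * ⁅t, y⁆ * c⁻¹ * ⁅c, y⁆ := by
        simp only [commutatorElement_def]
        group
      rw [e]
      refine N.mul_mem (hNn.conj_mem _ ?_ c) ((hcc c).1 hc' y hyR)
      have := (mem_sectionKernel_iff.1 hyK) t ht
      rw [← commutatorElement_inv]
      exact inv_mem this
    have hdD : d ∈ D := hd
    rw [hcc]
    intro x hx
    rw [← mem_comm_subgroup]
    refine hgen _ ?_ ?_ hx
    · intro n hn
      rw [mem_comm_subgroup]
      have e : ⁅d, n⁆ = (d * n * d⁻¹) * n⁻¹ := by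
        rw [commutatorElement_def]
      rw [e]
      exact N.mul_mem (hNn.conj_mem n hn d) (inv_mem hn)
    · intro g
      rw [mem_comm_subgroup]
      have h1 := hdy _ (hDn.conj_mem d hdD g⁻¹)
      have h2 := hNn.conj_mem _ h1 g
      have e : g * ⁅g⁻¹ * d * g⁻¹⁻¹, y⁆ * g⁻¹ = ⁅d, g * y * g⁻¹⁆ := by
        simp only [commutatorElement_def]
        group
      rwa [e] at h2
  -- `A` does not act trivially on `R / N`
  have hAC : ¬ A ≤ Cc := by
    intro hAC
    set T : Subgroup G := (S : Subgroup G) ⊓ Cc with hT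
    have hAT : A ≤ T := le_inf hAS hAC
    have hAT' : IsMaxIn 0 T A := hA.of_le inf_le_left hAT
    set Z₁ : Subgroup G := Z₀ 0 T with hZ₁
    have hZZ : Zz ≤ Z₁ := le_sInf (fun B hB => Z₀_le (hA.of_le_of_exists inf_le_left hAT hB))
    have hZ₁A : Z₁ ≤ A := Z₀_le hAT'
    have hconj : ∀ g : G, g * y * g⁻¹ ∈ A := by
      intro g
      obtain ⟨c, hc', n, hn, hgi⟩ := Cfsg.Agent.Lib.PLocal.AlperinG.exists_frattini_normal S Cc g⁻¹
      have hg : g = n⁻¹ * c⁻¹ := by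
        have : g = (g⁻¹)⁻¹ := by group
        rw [this, hgi]
        group
      have e : g * y * g⁻¹ = (n⁻¹ * ⁅c⁻¹, y⁆ * n⁻¹⁻¹) * (n⁻¹ * y * n⁻¹⁻¹) := by
        rw [hg]
        simp only [commutatorElement_def]
        group
      rw [e]
      refine A.mul_mem ?_ (hZ₁A (mem_Z₀_conj (inv_mem hn) (hZZ hyZ)))
      have h1 : ⁅c⁻¹, y⁆ ∈ N := (hcc _).1 (Cc.inv_mem hc') y hyR
      exact hZ₁A (hZZ (hNZ (hNn.conj_mem _ h1 n⁻¹)))
    exact hA2 (hgen A (fun n hn => hZ₁A (hZZ (hNZ hn))) hconj)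
  obtain ⟨a, haA, haC⟩ := SetLike.not_le_iff_exists.1 hAC
  -- the section
  let π : G →* G ⧸ N := QuotientGroup.mk' N
  have hπs : Function.Surjective π := QuotientGroup.mk'_surjective N
  have hπ1 : ∀ x, π x = 1 ↔ x ∈ N := fun x => QuotientGroup.eq_one_iff x
  let V : Subgroup (G ⧸ N) := R.map π
  haveI hVn : V.Normal := Subgroup.Normal.map hRn π hπs
  have hRcomm' : ∀ x ∈ R, ∀ x' ∈ R, π x * π x' = π x' * π x := by
    intro x hx x' hx'
    have h1 : π ⁅x, x'⁆ = 1 := (hπ1 _).2 (hRcomm (commutator_mem_commutator hx hx'))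
    rw [map_commutatorElement, commutatorElement_eq_one_iff_mul_comm] at h1
    exact h1
  have hRpow : ∀ x ∈ R, x ^ p ∈ N := by
    intro x hx
    have hx' : x ∈ closure (Group.conjugatesOfSet ((N : Set G) ∪ {y})) := hx
    induction hx' using Subgroup.closure_induction with
    | mem x hx' =>
      obtain ⟨s, hs, hsx⟩ := Group.mem_conjugatesOfSet_iff.1 hx'
      obtain ⟨g, rfl⟩ := isConj_iff.1 hsx
      rw [conj_pow]
      rcases hs with hs | hs
      · exact hNn.conj_mem _ (N.pow_mem hs _) g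
      · rw [Set.mem_singleton_iff] at hs
        rw [hs]
        exact hNn.conj_mem _ hyp g
    | one => simp
    | mul u v hu hv ihu ihv =>
      have hu' : u ∈ R := hu
      have hv' : v ∈ R := hv
      rw [← hπ1, map_pow, map_mul]
      have hc' : Commute (π u) (π v) := hRcomm' u hu' v hv'
      rw [hc'.mul_pow, ← map_pow, ← map_pow, (hπ1 _).2 (ihu hu'), (hπ1 _).2 (ihv hv'), one_mul]
    | inv u hu ihu =>
      have hu' : u ∈ R := hu
      rw [inv_pow]
      exact inv_mem (ihu hu')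
  have hV : Cfsg.IsElementaryAbelian p V := by
    refine ⟨⟨⟨?_⟩⟩, ?_⟩
    · rintro ⟨_, x, hx, rfl⟩ ⟨_, x', hx', rfl⟩
      exact Subtype.ext (hRcomm' x hx x' hx')
    · rintro _ ⟨x, hx, rfl⟩
      rw [← map_pow]
      exact (hπ1 _).2 (hRpow x hx)
  have hK : ∀ g, g ∈ Cc ↔ π g ∈ centralizer (V : Set (G ⧸ N)) := fun g => Iff.rfl
  have hCcV : ∀ k ∈ Cc, ∀ w ∈ V, π k * w * (π k)⁻¹ = w := by
    intro k hk w hw
    have := mem_centralizer_iff.1 ((hK k).1 hk) w hw
    rw [← this]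
    group
  have hqa : ∀ v ∈ V, ⁅⁅v, π a⁆, π a⁆ = 1 := by
    rintro _ ⟨x, hx, rfl⟩
    have h1 : ⁅⁅x, a⁆, a⁆ = 1 := by
      have : ⁅⁅x, a⁆, a⁆ ∈ (⊥ : Subgroup G) := by
        rw [← commutator_zpowers_eq_bot hA.2.1.1 hA3 haA]
        exact Subgroup.commutator_mem_commutator (Subgroup.commutator_mem_commutator hx
          (Subgroup.mem_zpowers a)) (Subgroup.mem_zpowers a)
      exact this
    rw [← map_commutatorElement, ← map_commutatorElement, h1, map_one]
  obtain ⟨M, _, _, _, ρ, hρ, hq⟩ := Cfsg.Agent.Lib.QuadAct.PStable.exists_rep_of_action (p := p)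
    π V hV Cc hK
  have hap : (QuotientGroup.mk a : G ⧸ Cc) ^ p = 1 :=
    Cfsg.Agent.Lib.QuadAct.Sections.pow_char_eq_one hρ (hq a hqa)
  obtain ⟨g₀, hg⟩ := Cfsg.Agent.Lib.QuadAct.Sections.exists_conj_not_pgroup hap
    (fun h => haC (hOp a h))
  obtain ⟨g, rfl⟩ := QuotientGroup.mk_surjective g₀
  have hqb : ∀ v ∈ V, ⁅⁅v, π (g * a * g⁻¹)⁆, π (g * a * g⁻¹)⁆ = 1 := by
    intro v hv
    have hv' : (π g)⁻¹ * v * π g ∈ V := by
      have := hVn.conj_mem v hv (π g)⁻¹
      simpa using this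
    have h2 := hqa _ hv'
    have e : v = π g * ((π g)⁻¹ * v * π g) * (π g)⁻¹ := by group
    have e' : π (g * a * g⁻¹) = π g * π a * (π g)⁻¹ := by
      rw [map_mul, map_mul, map_inv]
    rw [e', e]
    have hc : ∀ x y : G ⧸ N, ⁅π g * x * (π g)⁻¹, π g * y * (π g)⁻¹⁆ = π g * ⁅x, y⁆ * (π g)⁻¹ := by
      intro x y
      exact (map_commutatorElement (MulAut.conj (π g)).toMonoidHom x y).symm
    rw [hc, hc, h2]
    group
  have hnp : ¬ ∀ h ∈ closure {π a, π (g * a * g⁻¹)}, ∃ m : ℕ,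
      h ^ p ^ m ∈ centralizer (V : Set (G ⧸ N)) := by
    intro hall
    apply hg
    rw [isPGroup_iff_pow_pow_eq_one]
    rintro ⟨h, hh⟩
    have e1 : closure {(QuotientGroup.mk a : G ⧸ Cc),
        (QuotientGroup.mk g : G ⧸ Cc) * (QuotientGroup.mk a : G ⧸ Cc) * (QuotientGroup.mk g : G ⧸ Cc)⁻¹} =
        (closure {a, g * a * g⁻¹}).map (QuotientGroup.mk' Cc) := by
      rw [MonoidHom.map_closure, Set.image_pair]
      rfl
    rw [e1] at hh
    obtain ⟨h₀, hh₀, rfl⟩ := hh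
    have e2 : π h₀ ∈ closure {π a, π (g * a * g⁻¹)} := by
      have : π h₀ ∈ (closure {a, g * a * g⁻¹}).map π := Subgroup.mem_map_of_mem _ hh₀
      rwa [MonoidHom.map_closure, Set.image_pair] at this
    obtain ⟨m, hm⟩ := hall (π h₀) e2
    refine ⟨m, Subtype.ext ?_⟩
    have h3 : h₀ ^ p ^ m ∈ Cc := by
      rw [hK, map_pow]
      exact hm
    show (QuotientGroup.mk' Cc h₀) ^ p ^ m = 1
    rw [← map_pow]
    exact (QuotientGroup.eq_one_iff _).mpr h3
  obtain ⟨τb, -, hτa, v, hv, hv1, hτv⟩ := exists_inverting_of_quadratic_pair hp V hV (π a)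
    (π (g * a * g⁻¹)) hqa hqb hnp
  obtain ⟨τ, rfl⟩ := hπs τb
  obtain ⟨x, hxR, rfl⟩ := hv
  have hxN : x ∉ N := fun h => hv1 ((hπ1 x).2 h)
  -- the commutator of `τ` and `a` acts trivially on `R / N`
  have hcomm : τ * a * τ⁻¹ * a⁻¹ ∈ Cc := by
    rw [hK]
    refine mem_centralizer_iff.2 ?_
    intro w hw
    have hu : (π τ)⁻¹ * ((π a)⁻¹ * w * π a) * π τ ∈ V := by
      have h1 := hVn.conj_mem w hw (π a)⁻¹
      have h2 := hVn.conj_mem _ h1 (π τ)⁻¹
      simpa using h2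
    have h3 := hτa _ hu
    simp only [map_mul, map_inv]
    have e1 : π τ * ((π τ)⁻¹ * ((π a)⁻¹ * w * π a) * π τ) * (π τ)⁻¹ = (π a)⁻¹ * w * π a := by group
    rw [e1] at h3
    have e2 : π a * ((π a)⁻¹ * w * π a) * (π a)⁻¹ = w := by group
    rw [e2] at h3
    calc w * (π τ * π a * (π τ)⁻¹ * (π a)⁻¹)
        = (π τ * (π a * ((π τ)⁻¹ * ((π a)⁻¹ * w * π a) * π τ) * (π a)⁻¹) * (π τ)⁻¹) *
            (π τ * π a * (π τ)⁻¹ * (π a)⁻¹) := by rw [h3]
      _ = π τ * π a * (π τ)⁻¹ * (π a)⁻¹ * w := by group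
  -- the subgroup `E`
  set E : Subgroup G := zpowers a ⊔ Cc with hE
  have hCcE : Cc ≤ E := le_sup_right
  have haE : a ∈ E := Subgroup.mem_sup_left (mem_zpowers a)
  have hNNE : ∀ z : G, z * a * z⁻¹ ∈ E → z ∈ NN E := by
    intro z hz
    apply mem_NN_of_cj_le
    rw [hE]
    have e1 : cj z (zpowers a ⊔ Cc) = cj z (zpowers a) ⊔ cj z Cc := Subgroup.map_sup _ _ _
    rw [e1, cj_of_normal z hCn]
    refine sup_le ?_ le_sup_right
    rw [cj, Subgroup.map_le_iff_le_comap, zpowers_le, mem_comap]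
    exact hz
  have hCcNN : Cc ≤ NN E := by
    intro c hc'
    apply hNNE
    have e : c * a * c⁻¹ = (c * (a * c⁻¹ * a⁻¹)) * a := by group
    rw [e]
    exact E.mul_mem (hCcE (Cc.mul_mem hc' (hCn.conj_mem _ (Cc.inv_mem hc') a))) haE
  have hANN : A ≤ NN E := by
    intro b hb
    apply hNNE
    have hab : b * a = a * b := hA.2.1.comm hb haA
    have e : b * a * b⁻¹ = a := by rw [hab]; group
    rw [e]
    exact haE
  set X₂ : Subgroup G := A ⊔ Cc with hX₂
  have hX₂E : X₂ ≤ NN E := sup_le hANN hCcNN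
  have hEX₂ : E ≤ X₂ := sup_le (zpowers_le.2 (Subgroup.mem_sup_left haA)) le_sup_right
  obtain ⟨S₂, hS₂, hAS₂⟩ := exists_sylowIn_ge (p := p) (R := A) (H := X₂) le_sup_left
    (S.isPGroup'.to_le hAS)
  set T₀ : Subgroup G := S₂ ⊓ E with hT₀d
  have hT₀ : SylowIn p T₀ E := hS₂.inf_normal hEX₂ hX₂E
  have haT₀ : a ∈ T₀ := ⟨hAS₂ haA, haE⟩
  have hANT₀ : A ≤ NN T₀ := by
    intro b hb
    apply mem_NN_of_cj_le
    rw [hT₀d, cj_inf, cj_eq_of_mem (hAS₂ hb), mem_NN_iff_cj.1 (hANN hb)]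
  have hτE : τ ∈ NN E := by
    apply hNNE
    have e : τ * a * τ⁻¹ = (τ * a * τ⁻¹ * a⁻¹) * a := by group
    rw [e]
    exact E.mul_mem (hCcE hcomm) haE
  have hle : cj τ T₀ ≤ E := by
    have h1 := cj_mono (g := τ) (inf_le_right : T₀ ≤ E)
    rwa [mem_NN_iff_cj.1 hτE] at h1
  obtain ⟨z, hz, hzT⟩ := hT₀.conj hle (isPGroup_cj _ hT₀.isP)
  have hENN : E ≤ NN Cc := by
    rw [NN_eq_top_iff.2 hCn]
    exact le_top
  have hpw : ∀ u ∈ E, ∃ m : ℕ, u ^ p ^ m ∈ Cc := by
    intro u hu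
    have hle' : zpowers a ≤ NN Cc := by
      rw [NN_eq_top_iff.2 hCn]
      exact le_top
    obtain ⟨s, hs, m, hm, rfl⟩ := (mem_sup_iff_of_le_normalizer hle').1 hu
    obtain ⟨i, rfl⟩ := mem_zpowers_iff.1 hs
    refine ⟨1, ?_⟩
    rw [← QuotientGroup.eq_one_iff, pow_one, QuotientGroup.mk_pow, QuotientGroup.mk_mul,
      (QuotientGroup.eq_one_iff m).2 hm, mul_one, QuotientGroup.mk_zpow, ← zpow_natCast, ← zpow_mul,
      mul_comm, zpow_mul, zpow_natCast, hap, one_zpow]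
  obtain ⟨s, hs, k, hk, rfl⟩ := hT₀.cov hCcE hENN hpw hz
  set n := k * τ with hn
  have hnT₀ : n ∈ NN T₀ := by
    apply mem_NN_of_cj_le
    rw [cj_mul, cj_le_iff, cj_eq_of_mem (T₀.inv_mem hs)] at hzT
    rw [hn, cj_mul]
    exact hzT
  have hRT₀ : R ≤ T₀ := by
    obtain ⟨u, hu, huR⟩ := hT₀.conj (hRCc.trans hCcE) hRp
    rwa [cj_of_normal _ hRn] at huR
  have hT₀n : ¬ T₀.Normal := by
    intro h
    have h1 : (T₀.map (QuotientGroup.mk' Cc)).Normal :=
      Subgroup.Normal.map h _ (QuotientGroup.mk'_surjective Cc)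
    have h2 := le_pCore h1 (hT₀.isP.map _)
    exact haC (hOp a (h2 ⟨a, haT₀, rfl⟩))
  have hinv₀ : ¬ InvFreeS p (NN T₀) := by
    refine not_invFreeS_of_section hp (NN T₀) N (x := x) (n := n) (le_NN _ (hRT₀ hxR)) hnT₀
      ⟨1, by simpa using hRpow x hxR⟩ hxN ?_
    rw [← hπ1]
    have hxinv : (π x)⁻¹ ∈ V := inv_mem ⟨x, hxR, rfl⟩
    have h1 := hCcV k hk _ hxinv
    simp only [hn, map_mul, map_inv]
    calc π k * π τ * π x * (π k * π τ)⁻¹ * π x
        = π k * (π τ * π x * (π τ)⁻¹) * (π k)⁻¹ * π x := by group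
      _ = π k * (π x)⁻¹ * (π k)⁻¹ * π x := by rw [hτv]
      _ = (π x)⁻¹ * π x := by rw [h1]
      _ = 1 := by group
  -- transport into `S`
  have hSs : SylowIn p (S : Subgroup G) ⊤ := SylowIn.of_sylow S le_top
  obtain ⟨c, -, hcS⟩ := hSs.conj (le_top : S₂ ≤ ⊤) hS₂.isP
  set T₁ : Subgroup G := cj c T₀ with hT₁
  have hT₁S : T₁ ≤ (S : Subgroup G) := (cj_mono inf_le_left).trans hcS
  have hAcj : cj c A ≤ (S : Subgroup G) ⊓ NN T₁ :=
    le_inf ((cj_mono hAS₂).trans hcS) (by rw [hT₁, NN_cj]; exact cj_mono hANT₀)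
  have hT₁n : ¬ T₁.Normal := fun h => hT₀n ((normal_cj_iff c).1 h)
  have hinv₁ : ¬ InvFreeS p (NN T₁) := by
    rw [hT₁, NN_cj, InvFreeS_cj_iff]
    exact hinv₀
  have hfinal := chain_main hSs hB (fun B => ∃ g', cj g' A ≤ B) ?_ ?_ _ T₁ hT₁S hT₁n ⟨c, hAcj⟩ hinv₁
    le_rfl
  · rw [Wf_eq_Z₀] at hfinal
    exact hfinal
  · rintro B B' u ⟨g', hg'⟩ hu
    exact ⟨u * g', by rw [cj_mul]; exact (cj_mono hg').trans hu⟩
  · rintro B hBS - ⟨g', hg'⟩ hnorm
    rw [Wf_eq_Z₀] at hnorm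
    have hA'S : IsMaxIn 0 (S : Subgroup G) (cj g' A) :=
      ⟨hg'.trans hBS, (Cfsg.Agent.Lib.PLocal.Thompson.IsMaxIn.map_equiv hA (MulAut.conj g')).2.1, fun C hC hC' => by
        rw [card_cj]; exact hA.2.2 C hC hC'⟩
    have hZB : Zz ≤ Z₀ 0 B :=
      le_sInf (fun C hC => Z₀_le (hA'S.of_le_of_exists hBS hg' hC))
    have hBA' : Z₀ 0 B ≤ cj g' A := Z₀_le (hA'S.of_le hBS hg')
    have hRB : R ≤ Z₀ 0 B := hgen _ (fun n hn => hZB (hNZ hn))
      (fun g => hnorm.conj_mem y (hZB hyZ) g)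
    have h1 : R ≤ cj g' A := hRB.trans hBA'
    rw [le_cj_iff, cj_of_normal _ hRn] at h1
    exact hA2 h1

end Cfsg.Agent.Lib.ZJ.InvChain
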