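import Cfsg.Agent.Lib.ZJ.InvChain

/-!
# `Z(J(S))` controls strong fusion when no `p`-element is inverted in its normalizer

For `p` odd: if no nonidentity `p`-element of `N_G(Z(J(S)))` is inverted in `N_G(Z(J(S)))`, then
`N_G(Z(J(S)))` controls strong fusion in `S`, hence no nonidentity `p`-element of `G` is inverted in `G`.
-/

set_option autoImplicit false
set_option linter.unusedSectionVars false
set_option linter.unusedVariables false
set_option linter.style.haveILetI false
set_option linter.unusedSimpArgs false

open scoped commutatorElement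

namespace Cfsg.Agent.Lib.ZJ.InvMain

open Subgroup Cfsg Cfsg.Agent.Lib.ZJ.Reduction Cfsg.Agent.Lib.ZJ.Main Cfsg.Agent.Lib.ZJ.InvFree
open Cfsg.Agent.Lib.ZJ.QdControl Cfsg.Agent.Lib.ZJ.InvChain Cfsg.Agent.Lib.PLocal.ZJ
open Cfsg.Agent.Lib.PLocal.Thompson Cfsg.Agent.Lib.ZJ.Core Cfsg.Agent.Lib.Core.Basic

universe u

section step

variable {W : ∀ (Q : Type u) [Group Q], Subgroup Q}
variable {G : Type u} [Group G] {p : ℕ} [Fact p.Prime] [Finite G]

/-- The inductive step of the reduction, when there is no normal `p'`-subgroup and `O_p(G)` does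
not contain its centralizer. -/
theorem step' (hW : IsCharPFunctor.{u} p W)
    (hIH : ∀ P : Sylow p G, ∀ X : Subgroup G, X ≠ ⊤ → (P : Subgroup G) ≤ X → CSFg W p X)
    (hIHq : ∀ K : Subgroup G, K ≠ ⊤ → CSFg W p (K.map (QuotientGroup.mk' (pCore p G))))
    (hM : ∀ M : Subgroup G, M.Normal → Nat.Coprime (Nat.card M) p → M = ⊥)
    (hC : ¬ Subgroup.centralizer (pCore p G : Set G) ≤ pCore p G) : CSFg W p G := by
  classical
  intro P A hA g hg
  set Q := pCore p G with hQ
  have hQn : Q.Normal := inferInstance
  let π : G →* G ⧸ Q := QuotientGroup.mk' Q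
  have hπ : Function.Surjective π := QuotientGroup.mk'_surjective Q
  have hker : π.ker = Q := QuotientGroup.ker_mk' Q
  have hQp : IsPGroup p Q := pCore_isPGroup
  have hPs : SylowIn p (P : Subgroup G) ⊤ := SylowIn.of_sylow P le_top
  have hPp : IsPGroup p (P : Subgroup G) := hPs.isP
  set Z := Wf W (P : Subgroup G) with hZ
  have hX : ∀ X : Subgroup G, X ≠ ⊤ → (P : Subgroup G) ≤ X → ∀ A : Subgroup G,
      A ≤ (P : Subgroup G) → ∀ g ∈ X, cj g A ≤ (P : Subgroup G) →
      ∃ n ∈ X ⊓ NN Z, ∀ a ∈ A, n * a * n⁻¹ = g * a * g⁻¹ :=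
    fun X hXne hPX A hA g hg hgA =>
      good_of_csf hW (SylowIn.of_sylow P hPX) (hIH P X hXne hPX) hA hg hgA
  have hVn : ¬ ((P : Subgroup G) ⊓ CC π).Normal := by
    intro hn
    apply hC
    refine centralizer_le_of_sylow_le hPs hM Q hQp (fun R hR hRp => le_pCore hR hRp) ?_
    have h1 : (P : Subgroup G) ⊓ CC π ≤ Q := le_pCore hn (hPp.to_le inf_le_left)
    rw [CC, hker] at h1
    exact h1
  by_cases hPC : (P : Subgroup G) ⊔ CC π = ⊤
  · have H : CoreHyp p (P : Subgroup G) Z π (Wt W π) :=
      { hP := hPs
        hQP := by rw [hker]; exact pCore_le_sylow P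
        hQmax := fun R hR hRp => by rw [hker]; exact le_pCore hR hRp
        hNZ := NN_le_NN_Wf hW _ hPp
        hPC := hPC
        Wt_le := by
          intro T hT _ x hx
          have h1 : π x ∈ T.map π := Wf_le _ hx
          obtain ⟨t, ht, hte⟩ := h1
          exact mem_of_map_eq π hT hte.symm ht
        Wt_ge := by
          intro T _ _ x hx
          have h1 : π x = 1 := hx
          change π x ∈ Wf W (T.map π)
          rw [h1]
          exact Subgroup.one_mem _
        Wt_ne := by
          intro T hT hTp hne he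
          have h1 : T.map π ≠ ⊥ := by
            intro hb
            apply hne
            refine le_antisymm ?_ hT
            intro x hx
            have : π x ∈ T.map π := ⟨x, hx, rfl⟩
            rw [hb] at this
            exact (Subgroup.mem_bot.1 this)
          have h2 := Wf_ne_bot hW _ (hTp.map π) h1
          apply h2
          rw [eq_bot_iff]
          intro y hy
          obtain ⟨x, rfl⟩ := hπ y
          have h3 : x ∈ π.ker := by
            rw [← he]; exact hy
          exact Subgroup.mem_bot.2 h3
        Wt_NN := by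
          intro T hT hTp x hx
          have h1 : π x ∈ NN (T.map π) := by
            apply mem_NN_of_cj_le
            rw [← map_cj, mem_NN_iff_cj.1 hx]
          have h2 := NN_le_NN_Wf hW _ (hTp.map π) h1
          refine mem_NN.2 ?_
          intro y
          have h3 := mem_NN.1 h2 (π y)
          change π y ∈ Wf W (T.map π) ↔ π (x * y * x⁻¹) ∈ Wf W (T.map π)
          rw [h3]
          simp
        hX := hX
        hK := by
          intro K T hKne hQT hTK B hB y hy hyB
          have hIq := hIHq K hKne
          have hsyl : SylowIn p (T.map π) (K.map π) := hTK.map π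
          obtain ⟨n, ⟨hnK, hnN⟩, hna⟩ := good_of_csf hW hsyl hIq (A := B.map π)
            (Subgroup.map_mono hB) (g := π y) ⟨y, hy, rfl⟩
            (by rw [← map_cj]; exact Subgroup.map_mono hyB)
          obtain ⟨n₀, hn₀, rfl⟩ := hnK
          refine ⟨n₀, ⟨hn₀, ?_⟩, fun a ha => ?_⟩
          · refine mem_NN.2 ?_
            intro z
            have h3 := mem_NN.1 hnN (π z)
            change π z ∈ Wf W (T.map π) ↔ π (n₀ * z * n₀⁻¹) ∈ Wf W (T.map π)
            rw [h3]
            simp
          · have := hna (π a) ⟨a, ha, rfl⟩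
            simpa using this }
    exact H.main _ A hA le_rfl g hg
  · exact core_notPC hPs hVn hPC hX A hA g hg


end step

section main

variable {p : ℕ} [hpf : Fact p.Prime]

lemma sylow_eq_cj {G : Type u} [Group G] [Finite G] (T₀ T : Sylow p G) :
    ∃ c : G, (T : Subgroup G) = cj c (T₀ : Subgroup G) := by
  obtain ⟨c, hc⟩ := MulAction.exists_smul_eq G T₀ T
  refine ⟨c, ?_⟩
  rw [← hc]
  ext a
  rw [Sylow.coe_subgroup_smul, Subgroup.mem_pointwise_smul_iff_inv_smul_mem, mem_cj]
  have e : (MulAut.conj c)⁻¹ • a = c⁻¹ * a * c := by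
    simp [MulAut.smul_def, MulAut.inv_def, mul_assoc]
  rw [e]

/-- Passing between the Sylow subgroups. -/
lemma all_sylow {G : Type u} [Group G] [Finite G] (S₀ : Sylow p G)
    (h : InvFreeS p (NN (Wf WZJ (S₀ : Subgroup G)))) :
    ∀ T : Sylow p G, InvFreeS p (NN (Wf WZJ (T : Subgroup G))) := by
  intro T
  obtain ⟨c, hc⟩ := sylow_eq_cj S₀ T
  rw [hc, Wf_cj isCharP_WZJ c _ S₀.isPGroup', NN_cj]
  exact h.cj c

/-- Lemma A: control of strong fusion propagates inversion. -/
lemma invFree_of_csf_top {Y : Type u} [Group Y] [Finite Y] (hcsf : CSFg WZJ p Y) (S : Sylow p Y)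
    (h : InvFreeS p (NN (Wf WZJ (S : Subgroup Y)))) : InvFree p Y := by
  classical
  intro x g hxp hx1 hinv
  have hSs : SylowIn p (S : Subgroup Y) ⊤ := SylowIn.of_sylow S le_top
  obtain ⟨k, hk⟩ := hxp
  have hzp : IsPGroup p (zpowers x) := by
    rw [isPGroup_iff_pow_pow_eq_one]
    rintro ⟨_, i, rfl⟩
    refine ⟨k, Subtype.ext ?_⟩
    show (x ^ i) ^ p ^ k = 1
    rw [← zpow_natCast, ← zpow_mul, mul_comm, zpow_mul, zpow_natCast, hk, one_zpow]
  obtain ⟨z, -, hz⟩ := hSs.conj (le_top : zpowers x ≤ ⊤) hzp
  set x' := z * x * z⁻¹ with hx'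
  set g' := z * g * z⁻¹ with hg'
  have hx'S : x' ∈ (S : Subgroup Y) := hz (conj_mem_cj (mem_zpowers x))
  have hinv' : g' * x' * g'⁻¹ = x'⁻¹ := by
    calc g' * x' * g'⁻¹ = z * (g * x * g⁻¹) * z⁻¹ := by rw [hg', hx']; group
      _ = z * x⁻¹ * z⁻¹ := by rw [hinv]
      _ = x'⁻¹ := by rw [hx']; group
  have hle : cj g' (zpowers x') ≤ (S : Subgroup Y) := by
    rw [cj, Subgroup.map_le_iff_le_comap, zpowers_le, mem_comap]
    show g' * x' * g'⁻¹ ∈ (S : Subgroup Y)
    rw [hinv']
    exact inv_mem hx'S
  obtain ⟨n, hn, hna⟩ := hcsf S (zpowers x') (zpowers_le.2 hx'S) g' hle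
  have h1 := hna x' (mem_zpowers x')
  rw [hinv'] at h1
  refine h x' (((le_NN _).trans (NN_le_NN_Wf isCharP_WZJ _ S.isPGroup')) hx'S) n hn ?_ ?_ h1
  · refine ⟨k, ?_⟩
    rw [hx', conj_pow, hk]
    group
  · intro h0
    apply hx1
    have : x = z⁻¹ * x' * z := by rw [hx']; group
    rw [this, h0]
    group

/-- Transfer of the hypothesis to a subgroup. -/
lemma hyp_sub {G : Type u} [Group G] [Finite G] {X S₁ : Subgroup G} (hS₁ : SylowIn p S₁ X)
    (h : InvFreeS p (X ⊓ NN (Wf WZJ S₁))) :
    InvFreeS p (NN (Wf WZJ (hS₁.toSylow : Subgroup X))) := by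
  have hT : (hS₁.toSylow : Subgroup X) = S₁.subgroupOf X := rfl
  have hmap : (Wf WZJ (hS₁.toSylow : Subgroup X)).map X.subtype = Wf WZJ S₁ := by
    rw [Wf_map isCharP_WZJ X.subtype _ hS₁.toSylow.isPGroup' (fun x _ y _ h => X.subtype_injective h)]
    congr 1
    rw [hT, Subgroup.subgroupOf_map_subtype, inf_eq_left.2 hS₁.le]
  have hmem : ∀ n : X, n ∈ NN (Wf WZJ (hS₁.toSylow : Subgroup X)) → (n : G) ∈ X ⊓ NN (Wf WZJ S₁) := by
    intro n hn
    refine ⟨n.2, ?_⟩
    rw [← hmap]
    apply mem_NN_of_cj_le
    intro b hb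
    rw [mem_cj] at hb
    obtain ⟨y, hy, hye⟩ := hb
    have h3 := (mem_NN.1 hn y).1 hy
    refine ⟨_, h3, ?_⟩
    simp only [Subgroup.subtype_apply] at hye ⊢
    simp only [InvMemClass.coe_inv, MulMemClass.coe_mul]
    rw [hye]
    group
  intro x hx g hg hxp hx1 hinv
  refine h x (hmem x hx) g (hmem g hg) ?_ ?_ ?_
  · obtain ⟨k, hk⟩ := hxp
    exact ⟨k, by simpa [Subtype.ext_iff] using hk⟩
  · intro h0
    exact hx1 (Subtype.ext h0)
  · simpa [Subtype.ext_iff] using hinv

/-- The normalizer of the image of a subgroup in a quotient by a `p'`-subgroup. -/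
lemma NN_map_le {G : Type u} [Group G] [Finite G] (M : Subgroup G) [hMn : M.Normal]
    (hM : Nat.Coprime (Nat.card M) p) {Z : Subgroup G} (hZp : IsPGroup p Z) :
    NN (Z.map (QuotientGroup.mk' M)) ≤ (NN Z).map (QuotientGroup.mk' M) := by
  intro gb hgb
  let π : G →* G ⧸ M := QuotientGroup.mk' M
  obtain ⟨g, rfl⟩ := QuotientGroup.mk'_surjective M gb
  have hker : ∀ x, π x = 1 ↔ x ∈ M := fun x => QuotientGroup.eq_one_iff x
  have h1 : cj g Z ≤ Z ⊔ M := by
    intro x hx
    have h2 : π x ∈ Z.map π := by
      have h3 : π (g⁻¹ * x * g) ∈ Z.map π := ⟨_, (mem_cj.1 hx), rfl⟩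
      have h4 := (mem_NN.1 hgb _).1 h3
      have e : π g * π (g⁻¹ * x * g) * (π g)⁻¹ = π x := by simp [mul_assoc]
      rwa [e] at h4
    obtain ⟨z, hz, hzx⟩ := h2
    have h5 : z⁻¹ * x ∈ M := by
      rw [← hker, map_mul, map_inv, hzx]; simp
    have : x = z * (z⁻¹ * x) := by group
    rw [this]
    exact Subgroup.mul_mem _ (Subgroup.mem_sup_left hz) (Subgroup.mem_sup_right h5)
  have hZM : Z ≤ NN M := by
    rw [NN_eq_top_iff.2 hMn]
    exact le_top
  obtain ⟨m, hm, hmZ⟩ := sylow_conj_in_prod hZM hZp hM h1 (isPGroup_cj g hZp)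
  refine ⟨m * g, ?_, ?_⟩
  · apply mem_NN_of_cj_le
    rwa [cj_mul]
  · show π (m * g) = π g
    rw [map_mul, (hker m).2 hm, one_mul]

/-- Images of `InvFree`-normalizers. -/
lemma InvFreeS.map_of_surjective {G : Type u} [Group G] [Finite G] {G' : Type u} [Group G']
    (hp : p ≠ 2) {K : Subgroup G} (h : InvFreeS p K) (π : G →* G') :
    InvFreeS p (K.map π) := by
  have h1 := InvFree.of_surjective hp (invFree_coe_iff.2 h) (π.subgroupMap K)
    (π.subgroupMap_surjective K)
  exact invFree_coe_iff.1 h1

/-- **Theorem**: for `p` odd, if no nonidentity `p`-element is inverted in `N_G(Z(J(S)))`, then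
`N_G(Z(J(S)))` controls strong fusion. -/
theorem csf_of_invFree (hp : p ≠ 2) : ∀ (G : Type u) [Group G] [Finite G],
    (∀ S : Sylow p G, InvFreeS p (NN (Wf WZJ (S : Subgroup G)))) → CSFg WZJ p G := by
  classical
  have key : ∀ n : ℕ, ∀ (G : Type u) [Group G] [Finite G], Nat.card G = n →
      (∀ S : Sylow p G, InvFreeS p (NN (Wf WZJ (S : Subgroup G)))) → CSFg WZJ p G := by
    intro n
    induction n using Nat.strong_induction_on with
    | _ n ih =>
    intro G _ _ hn hH
    have hsmall : ∀ X : Subgroup G, X ≠ ⊤ → Nat.card X < n := by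
      intro X hX
      rw [← hn, ← Subgroup.card_top (G := G)]
      exact card_lt_of_lt (lt_top_iff_ne_top.2 hX)
    have hLoc : LocalInv p G := by
      intro X S₁ hXne hS₁ hX hcon
      have h0 := hyp_sub hS₁ hcon
      have hcsf : CSFg WZJ p X := ih _ (hsmall X hXne) X rfl (all_sylow _ h0)
      exact hX (invFree_coe_iff.1 (invFree_of_csf_top hcsf _ h0))
    by_cases hM : ∀ M : Subgroup G, M.Normal → Nat.Coprime (Nat.card M) p → M = ⊥
    swap
    · simp only [not_forall] at hM
      obtain ⟨M, hMn, hMc, hne⟩ := hM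
      have hlt : Nat.card (G ⧸ M) < n := by
        rw [← hn]
        have h1 : Nat.card G = Nat.card M * Nat.card (G ⧸ M) := by
          rw [mul_comm]
          exact (Subgroup.card_eq_card_quotient_mul_card_subgroup M)
        have h2 : 1 < Nat.card M := by
          have : Nontrivial M := (Subgroup.nontrivial_iff_ne_bot M).2 hne
          exact Finite.one_lt_card
        have h3 : 0 < Nat.card (G ⧸ M) := Nat.card_pos
        rw [h1]
        nlinarith
      refine csf_of_quotient isCharP_WZJ M hMc (ih _ hlt (G ⧸ M) rfl ?_)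
      let P : Sylow p G := default
      let Pb : Sylow p (G ⧸ M) := P.mapSurjective (QuotientGroup.mk'_surjective M)
      refine all_sylow Pb ?_
      have hPb : (Pb : Subgroup (G ⧸ M)) = (P : Subgroup G).map (QuotientGroup.mk' M) := rfl
      have hPp : IsPGroup p (P : Subgroup G) := P.isPGroup'
      have hone : ∀ x ∈ (P : Subgroup G), x ∈ M → x = 1 := by
        intro x hxP hxM
        obtain ⟨k, hk⟩ := hPp ⟨x, hxP⟩
        have hk' : x ^ p ^ k = 1 := by simpa [Subtype.ext_iff] using hk
        have h1 : orderOf x ∣ p ^ k := orderOf_dvd_of_pow_eq_one hk'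
        have h2 : orderOf x ∣ Nat.card M := Subgroup.orderOf_dvd_natCard M hxM
        have h3 : Nat.Coprime (orderOf x) (p ^ k) :=
          Nat.Coprime.coprime_dvd_left h2 (Nat.Coprime.pow_right k hMc)
        exact orderOf_eq_one_iff.1 (Nat.Coprime.eq_one_of_dvd h3 h1)
      have hinj : ∀ x ∈ (P : Subgroup G), ∀ y ∈ (P : Subgroup G),
          QuotientGroup.mk' M x = QuotientGroup.mk' M y → x = y := by
        intro x hx y hy hxy
        have h1 : x⁻¹ * y ∈ M := by
          rw [← QuotientGroup.eq_one_iff, QuotientGroup.mk_mul, QuotientGroup.mk_inv]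
          have hxy' : (QuotientGroup.mk x : G ⧸ M) = QuotientGroup.mk y := hxy
          rw [hxy']
          simp
        have h2 := hone _ (Subgroup.mul_mem _ (Subgroup.inv_mem _ hx) hy) h1
        exact (inv_mul_eq_one.1 h2)
      have hZmap : (Wf WZJ (P : Subgroup G)).map (QuotientGroup.mk' M) =
          Wf WZJ (Pb : Subgroup (G ⧸ M)) := by
        rw [hPb]
        exact Wf_map isCharP_WZJ _ _ hPp hinj
      rw [← hZmap]
      exact (InvFreeS.map_of_surjective hp (hH P) (QuotientGroup.mk' M)).mono
        (NN_map_le M hMc (hPp.to_le (Wf_le _)))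
    by_cases hZn : ∀ S : Sylow p G, (Wf WZJ (S : Subgroup G)).Normal
    · intro P A _ g _
      refine Good.of_mem ?_
      rw [NN_eq_top_iff.2 (hZn P)]
      trivial
    simp only [not_forall] at hZn
    obtain ⟨S, hS⟩ := hZn
    by_cases hC : centralizer (pCore p G : Set G) ≤ pCore p G
    · exfalso
      have h1 := hH S
      rw [Wf_eq_Z₀] at h1 hS
      exact caseB hp hLoc S hC hS h1
    · set Q : Subgroup G := pCore p G with hQ
      have hQn : Q.Normal := inferInstance
      have hQS : Q ≤ (S : Subgroup G) := pCore_le_sylow S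
      have hQmax : ∀ R : Subgroup G, R.Normal → IsPGroup p R → R ≤ Q :=
        fun R hR hRp => le_pCore hR hRp
      have hSs : SylowIn p (S : Subgroup G) ⊤ := SylowIn.of_sylow S le_top
      have hSp : IsPGroup p (S : Subgroup G) := S.isPGroup'
      -- `G / Q` has no inverted elements
      have hΓ : InvFree p (G ⧸ Q) := by
        by_cases hQb : Q = ⊥
        · -- the chain in `G`
          have hG : InvFree p G := by
            intro x g hxp hx1 hinv
            obtain ⟨k, hk⟩ := hxp
            have hzp : IsPGroup p (zpowers x) := by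
              rw [isPGroup_iff_pow_pow_eq_one]
              rintro ⟨_, i, rfl⟩
              refine ⟨k, Subtype.ext ?_⟩
              show (x ^ i) ^ p ^ k = 1
              rw [← zpow_natCast, ← zpow_mul, mul_comm, zpow_mul, zpow_natCast, hk, one_zpow]
            obtain ⟨z, -, hz⟩ := hSs.conj (le_top : zpowers x ≤ ⊤) hzp
            have hleS := hz
            rw [show cj z (zpowers x) = zpowers (z * x * z⁻¹) from MonoidHom.map_zpowers _ _] at hleS
            set x' := z * x * z⁻¹ with hx'
            set g' := z * g * z⁻¹ with hg'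
            have hx'S : x' ∈ (S : Subgroup G) := hleS (mem_zpowers _)
            have hinv' : g' * x' * g'⁻¹ = x'⁻¹ := by
              calc g' * x' * g'⁻¹ = z * (g * x * g⁻¹) * z⁻¹ := by rw [hg', hx']; group
                _ = z * x⁻¹ * z⁻¹ := by rw [hinv]
                _ = x'⁻¹ := by rw [hx']; group
            have hx'1 : x' ≠ 1 := by
              intro h0
              apply hx1
              have : x = z⁻¹ * x' * z := by rw [hx']; group
              rw [this, h0]
              group
            have hg'N : g' ∈ NN (zpowers x') := by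
              apply mem_NN_of_cj_le
              rw [cj, Subgroup.map_le_iff_le_comap, zpowers_le, mem_comap]
              show g' * x' * g'⁻¹ ∈ zpowers x'
              rw [hinv']
              exact inv_mem (mem_zpowers x')
            have hne : ¬ (zpowers x').Normal := by
              intro hnorm
              have h1 := hQmax _ hnorm (hSp.to_le hleS)
              rw [hQb] at h1
              exact hx'1 (Subgroup.mem_bot.1 (h1 (mem_zpowers x')))
            refine chain_main hSs hLoc (fun B => B ≠ ⊥) ?_ ?_ _ (zpowers x') hleS hne ?_ ?_ le_rfl (hH S)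
            · rintro B B' u hB hu rfl
              apply hB
              rw [eq_bot_iff]
              intro b hb
              have h1 := hu (conj_mem_cj (g := u) hb)
              rw [Subgroup.mem_bot] at h1 ⊢
              have e : b = u⁻¹ * (u * b * u⁻¹) * u := by group
              rw [e, h1]
              group
            · intro B hBS _ hB hnorm
              have h1 := hQmax _ hnorm (hSp.to_le ((Wf_le _).trans hBS))
              rw [hQb, le_bot_iff] at h1
              exact Wf_ne_bot isCharP_WZJ B (hSp.to_le hBS) hB h1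
            · intro hb
              have h1 : x' ∈ (S : Subgroup G) ⊓ NN (zpowers x') := ⟨hx'S, le_NN _ (mem_zpowers x')⟩
              rw [hb] at h1
              exact hx'1 (Subgroup.mem_bot.1 h1)
            · intro hc
              refine hc x' (le_NN _ (mem_zpowers x')) g' hg'N ⟨k, ?_⟩ hx'1 hinv'
              rw [hx', conj_pow, hk]
              group
          exact InvFree.of_surjective hp hG (QuotientGroup.mk' Q) (QuotientGroup.mk'_surjective Q)
        · -- induction on `G / Q`
          by_contra hΓ
          have hlt : Nat.card (G ⧸ Q) < n := by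
            rw [← hn]
            have h1 : Nat.card G = Nat.card Q * Nat.card (G ⧸ Q) := by
              rw [mul_comm]
              exact (Subgroup.card_eq_card_quotient_mul_card_subgroup Q)
            have h2 : 1 < Nat.card Q := by
              have : Nontrivial Q := (Subgroup.nontrivial_iff_ne_bot Q).2 hQb
              exact Finite.one_lt_card
            have h3 : 0 < Nat.card (G ⧸ Q) := Nat.card_pos
            rw [h1]
            nlinarith
          let π : G →* G ⧸ Q := QuotientGroup.mk' Q
          have hπs : Function.Surjective π := QuotientGroup.mk'_surjective Q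
          let Sb : Sylow p (G ⧸ Q) := S.mapSurjective hπs
          have hSb : (Sb : Subgroup (G ⧸ Q)) = (S : Subgroup G).map π := rfl
          have hnotΓ : ¬ InvFreeS p (NN (Wf WZJ (Sb : Subgroup (G ⧸ Q)))) := by
            intro hc
            exact hΓ (invFree_of_csf_top (ih _ hlt (G ⧸ Q) rfl (all_sylow Sb hc)) Sb hc)
          set Wb := Wf WZJ (Sb : Subgroup (G ⧸ Q)) with hWb
          set Wt : Subgroup G := Wb.comap π with hWt
          have hNNmap : NN Wb ≤ (NN Wt).map π := by
            intro gb hgb
            obtain ⟨g, rfl⟩ := hπs gb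
            refine ⟨g, ?_, rfl⟩
            refine mem_NN.2 ?_
            intro y
            have h3 := mem_NN.1 hgb (π y)
            change π y ∈ Wb ↔ π (g * y * g⁻¹) ∈ Wb
            rw [h3]
            simp
          have hnotM : ¬ InvFreeS p (NN Wt) := by
            intro hc
            exact hnotΓ ((InvFreeS.map_of_surjective hp hc π).mono hNNmap)
          have hWtS : Wt ≤ (S : Subgroup G) := by
            intro x hx
            have h1 : π x ∈ (S : Subgroup G).map π := Wf_le _ hx
            obtain ⟨t, ht, hte⟩ := h1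
            have hker : π.ker = Q := QuotientGroup.ker_mk' Q
            exact mem_of_map_eq π (by rw [hker]; exact hQS) hte.symm ht
          have hSM : (S : Subgroup G) ≤ NN Wt := by
            intro s hs
            have h1 : π s ∈ (Sb : Subgroup (G ⧸ Q)) := ⟨s, hs, rfl⟩
            have h2 := NN_le_NN_Wf isCharP_WZJ (Sb : Subgroup (G ⧸ Q)) Sb.isPGroup'
              (le_NN _ h1)
            refine mem_NN.2 ?_
            intro y
            have h3 : π y ∈ Wb ↔ π s * π y * (π s)⁻¹ ∈ Wb := mem_NN.1 h2 (π y)
            change π y ∈ Wb ↔ π (s * y * s⁻¹) ∈ Wb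
            rw [h3, map_mul, map_mul, map_inv]
          have hWtn : NN Wt ≠ ⊤ := by
            intro htop
            have hnorm : Wt.Normal := NN_eq_top_iff.1 htop
            have h1 : Wt ≤ Q := hQmax _ hnorm (hSp.to_le hWtS)
            have h2 : Wb = ⊥ := by
              rw [eq_bot_iff]
              intro yb hyb
              obtain ⟨y, rfl⟩ := hπs yb
              have h3 : y ∈ Q := h1 hyb
              rw [Subgroup.mem_bot]
              exact (QuotientGroup.eq_one_iff _).2 h3
            have h3 : (Sb : Subgroup (G ⧸ Q)) = ⊥ := by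
              by_contra hne
              exact Wf_ne_bot isCharP_WZJ _ Sb.isPGroup' hne h2
            have hSQ : (S : Subgroup G) ≤ Q := by
              intro s hs
              have h4 : π s ∈ (Sb : Subgroup (G ⧸ Q)) := ⟨s, hs, rfl⟩
              rw [h3, Subgroup.mem_bot] at h4
              exact (QuotientGroup.eq_one_iff _).1 h4
            have hSe : (S : Subgroup G) = Q := le_antisymm hSQ hQS
            apply hS
            have hSn : (S : Subgroup G).Normal := by
              rw [hSe]
              exact hQn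
            rw [← NN_eq_top_iff, eq_top_iff]
            intro g _
            have h5 := NN_le_NN_Wf (W := WZJ) isCharP_WZJ (S : Subgroup G) hSp
            apply h5
            rw [NN_eq_top_iff.2 hSn]
            trivial
          have h1 := hLoc (NN Wt) (S : Subgroup G) hWtn (SylowIn.of_sylow S hSM) hnotM
          exact h1 ((hH S).mono inf_le_right)
      refine step' isCharP_WZJ ?_ ?_ hM hC
      · intro P X hXne hPX
        refine ih _ (hsmall X hXne) X rfl (all_sylow _ (hyp_sub (SylowIn.of_sylow P hPX) ?_))
        exact (hH P).mono inf_le_right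
      · intro K hK
        have hlt : Nat.card (K.map (QuotientGroup.mk' Q)) < n := by
          refine lt_of_le_of_lt ?_ (hsmall K hK)
          exact Nat.card_le_card_of_surjective _ (MonoidHom.subgroupMap_surjective _ K)
        refine ih _ hlt _ rfl ?_
        intro T
        have h2 : InvFree p ↥(K.map (QuotientGroup.mk' Q)) := invFree_coe_iff.2 (hΓ.subgroup _)
        exact h2.subgroup _
  intro G _ _ hH
  exact key _ G rfl hH

/-- The consequence: no `p`-element is inverted in `G`. -/
theorem invFree_of_invFree_normalizer (hp : p ≠ 2) {G : Type u} [Group G] [Finite G]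
    (hH : ∀ S : Sylow p G, InvFreeS p (NN (Wf WZJ (S : Subgroup G)))) : InvFree p G :=
  invFree_of_csf_top (csf_of_invFree hp G hH) default (hH default)

end main

end Cfsg.Agent.Lib.ZJ.InvMain
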